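import Mathlib.Algebra.Lie.Basis.Base
import Mathlib.Algebra.Lie.CartanCriterion
import Mathlib.FieldTheory.IsAlgClosed.Basic

/-!
Highest root combinatorics of a simple Lie algebra with a Chevalley basis.
-/

set_option autoImplicit false
set_option linter.style.haveILetI false
set_option linter.unusedSectionVars false
set_option backward.isDefEq.respectTransparency.types false

open LieAlgebra LieModule Module Set

namespace Groth.Agent.AdjVarLib

variable {ι K L : Type*} [Fintype ι] [Field K] [CharZero K] [IsAlgClosed K] [LieRing L] [LieAlgebra K L]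
  [FiniteDimensional K L] [LieAlgebra.IsSimple K L]
  {H : LieSubalgebra K L} [H.IsCartanSubalgebra] (b : LieAlgebra.Basis ι H)

/-- The root space as a submodule. -/
abbrev rs (H : LieSubalgebra K L) [H.IsCartanSubalgebra] (μ : Dual K H) : Submodule K L :=
  (rootSpace H (μ : H → K) : Submodule K L)

theorem lie_of_mem {μ : Dual K H} {x : L} (hx : x ∈ rs H μ) (h : H) : ⁅(h : L), x⁆ = μ h • x :=
  IsKilling.lie_eq_smul_of_mem_rootSpace hx h

theorem mem_of_lie {μ : Dual K H} {x : L} (hx : ∀ h : H, ⁅(h : L), x⁆ = μ h • x) : x ∈ rs H μ :=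
  (mem_genWeightSpace L _ x).mpr fun h => ⟨1, by simp [hx h]⟩

theorem lie_mem_rs {μ ν : Dual K H} {x y : L} (hx : x ∈ rs H μ) (hy : y ∈ rs H ν) :
    ⁅x, y⁆ ∈ rs H (μ + ν) := mem_of_lie fun h => by
  rw [leibniz_lie, lie_of_mem hx, lie_of_mem hy, smul_lie, lie_smul, ← add_smul, LinearMap.add_apply]

theorem mem_bot_of_ne {μ ν : Dual K H} {x : L} (hx : x ∈ rs H μ) (hy : x ∈ rs H ν) (h : μ ≠ ν) : x = 0 := by
  obtain ⟨y, hy'⟩ : ∃ y, μ y ≠ ν y := by
    by_contra hc
    exact h (LinearMap.ext fun y => not_not.mp fun h' => hc ⟨y, h'⟩)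
  have := (lie_of_mem hx y).symm.trans (lie_of_mem hy y)
  rw [← sub_eq_zero, ← sub_smul] at this
  exact (smul_eq_zero.mp this).resolve_left (sub_ne_zero.mpr hy')

theorem rs_eq_bot_iff {μ : Dual K H} : rootSpace H (μ : H → K) = ⊥ ↔ rs H μ = ⊥ :=
  (LieSubmodule.toSubmodule_eq_bot _).symm

theorem e_mem (i : ι) : b.e i ∈ rs H (b.baseSupp i) :=
  mem_of_lie fun h => (b.baseSupp_apply_smul_e i h).symm

theorem f_mem (i : ι) : b.f i ∈ rs H (-b.baseSupp i) := mem_of_lie fun h => by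
  rw [LinearMap.neg_apply, neg_smul, b.baseSupp_apply_smul_f, neg_neg]; rfl

theorem lie_h_of_mem {μ : Dual K H} {x : L} (hx : x ∈ rs H μ) (i : ι) :
    ⁅b.h i, x⁆ = μ (b.h' i) • x := lie_of_mem hx (b.h' i)

theorem linearIndependent_of_mem {n : Type*} (μ : n → Dual K H) (hμ : Function.Injective μ)
    (x : n → L) (hx : ∀ i, x i ∈ rs H (μ i)) (h0 : ∀ i, x i ≠ 0) : LinearIndependent K x := by
  have h := (LieSubmodule.iSupIndep_toSubmodule.mpr (iSupIndep_genWeightSpace K H L)).comp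
    (f := fun i => (μ i : H → K)) (DFunLike.coe_injective.comp hμ)
  exact h.linearIndependent _ hx h0

theorem rs_eq_span {μ : Dual K H} (hμ : μ ≠ 0) {x : L} (hx : x ∈ rs H μ) (h0 : x ≠ 0) :
    rs H μ = K ∙ x := by
  let α : Weight K H L := ⟨(μ : H → K), fun h => h0 (by
    have : x ∈ (genWeightSpace L (μ : H → K) : LieSubmodule K H L) := hx
    rwa [h, LieSubmodule.mem_bot] at this)⟩
  have hα : α.IsNonZero := fun h => hμ (LinearMap.ext fun y => congrFun h y)
  refine le_antisymm (fun y hy => ?_) ((Submodule.span_singleton_le_iff_mem _ _).mpr hx)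
  obtain ⟨c, hc⟩ := (finrank_eq_one_iff_of_nonzero' (⟨x, hx⟩ : rootSpace H (α : H → K))
    (fun h => h0 (congrArg Subtype.val h))).mp (IsKilling.finrank_rootSpace_eq_one α hα) ⟨y, hy⟩
  exact Submodule.mem_span_singleton.mpr ⟨c, congrArg Subtype.val hc⟩

theorem exists_neg {μ : Dual K H} {x : L} (hx : x ∈ rs H μ) (h0 : x ≠ 0) :
    ∃ y ∈ rs H (-μ), y ≠ 0 := by
  let α : Weight K H L := ⟨(μ : H → K), fun h => h0 (by
    have : x ∈ (genWeightSpace L (μ : H → K) : LieSubmodule K H L) := hx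
    rwa [h, LieSubmodule.mem_bot] at this)⟩
  obtain ⟨y, hy, hy0⟩ := (-α).exists_ne_zero
  exact ⟨y, hy, hy0⟩

/-- Iterated lowering operators applied to `v`. -/
def wd (v : L) : List ι → L
  | [] => v
  | i :: l => ⁅b.f i, wd v l⁆

/-- The weight of an iterated lowering. -/
noncomputable def wt (ρ : Dual K H) (l : List ι) : Dual K H := ρ - (l.map b.baseSupp).sum

@[simp] theorem wt_nil (ρ : Dual K H) : wt b ρ [] = ρ := by simp [wt]

theorem wt_cons (ρ : Dual K H) (i : ι) (l : List ι) : wt b ρ (i :: l) = wt b ρ l - b.baseSupp i := by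
  simp [wt, sub_sub, add_comm]

theorem wd_mem {ρ : Dual K H} {v : L} (hv : v ∈ rs H ρ) : ∀ l, wd b v l ∈ rs H (wt b ρ l)
  | [] => by simpa [wd] using hv
  | i :: l => by
    rw [wt_cons, sub_eq_neg_add]
    exact lie_mem_rs (f_mem b i) (wd_mem hv l)

theorem perm_of_sum_eq {l l' : List ι} (h : (l.map b.baseSupp).sum = (l'.map b.baseSupp).sum) :
    l.Perm l' := by
  classical
  have key : ∀ m : List ι, (m.map b.baseSupp).sum = ∑ i, (m.count i : K) • b.baseSupp i := by
    intro m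
    induction m with
    | nil => simp
    | cons a m ih =>
      simp only [List.map_cons, List.sum_cons, ih, List.count_cons, beq_iff_eq, Nat.cast_add, add_smul,
        Finset.sum_add_distrib, Nat.cast_ite, Nat.cast_one, Nat.cast_zero, ite_smul, one_smul, zero_smul]
      rw [Finset.sum_ite_eq Finset.univ a, if_pos (Finset.mem_univ a), add_comm]
  rw [key, key] at h
  exact List.perm_iff_count.mpr fun i =>
    Nat.cast_injective (R := K) (Fintype.linearIndependent_iffₛ.mp b.linearIndependent_baseSupp _ _ h i)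

theorem perm_of_wt_eq {ρ : Dual K H} {l l' : List ι} (h : wt b ρ l = wt b ρ l') : l.Perm l' :=
  perm_of_sum_eq b (sub_right_injective h)

section Primitive

variable {ρ : Dual K H} {v : L} (hv : v ∈ rs H ρ) (hv0 : v ≠ 0) (he : ∀ i, ⁅b.e i, v⁆ = 0)

include hv hv0 he

theorem span_wd_eq_top : Submodule.span K (range (wd b v)) = ⊤ := by
  set M := Submodule.span K (range (wd b v)) with hM
  have key : ∀ {x : L}, (∀ l, ⁅x, wd b v l⁆ ∈ M) → ∀ m ∈ M, ⁅x, m⁆ ∈ M := by
    intro x hx m hm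
    induction hm using Submodule.span_induction with
    | mem u hu => obtain ⟨l, rfl⟩ := hu; exact hx l
    | zero => simp
    | add u w _ _ hu hw => rw [lie_add]; exact add_mem hu hw
    | smul t u _ hu => rw [lie_smul]; exact M.smul_mem t hu
  have hf : ∀ i, ∀ m ∈ M, ⁅b.f i, m⁆ ∈ M := fun i => key fun l => Submodule.subset_span ⟨i :: l, rfl⟩
  have hh : ∀ i, ∀ m ∈ M, ⁅b.h i, m⁆ ∈ M := fun i => key fun l => by
    rw [lie_h_of_mem b (wd_mem b hv l)]
    exact M.smul_mem _ (Submodule.subset_span ⟨l, rfl⟩)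
  have hel : ∀ i l, ⁅b.e i, wd b v l⁆ ∈ M := by
    intro i l
    induction l with
    | nil => simp [wd, he]
    | cons k l ih =>
      show ⁅b.e i, ⁅b.f k, wd b v l⁆⁆ ∈ M
      rw [leibniz_lie]
      refine add_mem ?_ (hf k _ ih)
      rcases eq_or_ne i k with rfl | hik
      · rw [(b.sl2 i).lie_e_f]; exact hh i _ (Submodule.subset_span ⟨l, rfl⟩)
      · simp [b.lie_e_f_ne _ _ hik]
  have hall : ∀ x : L, ∀ m ∈ M, ⁅x, m⁆ ∈ M := by
    intro x
    have hx : x ∈ LieSubalgebra.lieSpan K L (range b.e ∪ range b.f) := by rw [b.span_ef]; trivial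
    induction hx using LieSubalgebra.lieSpan_induction with
    | mem u hu =>
      rcases hu with ⟨i, rfl⟩ | ⟨i, rfl⟩
      · exact key (hel i)
      · exact hf i
    | zero => intro m _; simp
    | add u w _ _ hu hw => intro m hm; rw [add_lie]; exact add_mem (hu m hm) (hw m hm)
    | smul t u _ hu => intro m hm; rw [smul_lie]; exact M.smul_mem t (hu m hm)
    | lie u w _ _ hu hw =>
      intro m hm; rw [lie_lie]; exact sub_mem (hu _ (hw m hm)) (hw _ (hu m hm))
  let I : LieIdeal K L := { toSubmodule := M, lie_mem := fun {x m} hm => hall x m hm }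
  rcases LieAlgebra.IsSimple.eq_bot_or_eq_top I with h | h
  · have : v ∈ I := Submodule.subset_span ⟨[], rfl⟩
    rw [h, LieSubmodule.mem_bot] at this
    exact absurd this hv0
  · exact congrArg LieSubmodule.toSubmodule h

theorem rs_le_span (μ : Dual K H) :
    rs H μ ≤ Submodule.span K (wd b v '' {l | wt b ρ l = μ}) := by
  intro x hx
  have hx' : x ∈ Submodule.span K (range (wd b v)) := by rw [span_wd_eq_top b hv hv0 he]; trivial
  rw [← image_univ, ← union_compl_self {l : List ι | wt b ρ l = μ}, image_union, Submodule.span_union,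
    Submodule.mem_sup] at hx'
  obtain ⟨y, hy, z, hz, rfl⟩ := hx'
  have hy' : y ∈ rs H μ := (Submodule.span_le.mpr (by
    rintro _ ⟨l, hl, rfl⟩
    have := wd_mem b hv l
    rwa [show wt b ρ l = μ from hl] at this)) hy
  have hz' : z ∈ rs H μ := by simpa using sub_mem hx hy'
  suffices z = 0 by rw [this, add_zero]; exact hy
  have hd := (LieSubmodule.iSupIndep_toSubmodule.mpr (iSupIndep_genWeightSpace K H L)) (μ : H → K)
  refine Submodule.disjoint_def.mp hd z hz' ?_
  refine (Submodule.span_le.mpr ?_) hz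
  rintro _ ⟨l, hl, rfl⟩
  exact Submodule.mem_iSup_of_mem ((wt b ρ l : Dual K H) : H → K)
    (Submodule.mem_iSup_of_mem (fun h => hl (DFunLike.coe_injective h)) (wd_mem b hv l))

theorem exists_wt {μ : Dual K H} {x : L} (hx : x ∈ rs H μ) (hx0 : x ≠ 0) : ∃ l, wt b ρ l = μ := by
  by_contra hc
  have h := rs_le_span b hv hv0 he μ hx
  rw [show {l | wt b ρ l = μ} = ∅ from eq_empty_of_forall_notMem fun l hl => hc ⟨l, hl⟩] at h
  simp at h
  exact hx0 h

theorem rs_self : rs H ρ = K ∙ v := by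
  refine le_antisymm ((rs_le_span b hv hv0 he ρ).trans ?_) ((Submodule.span_singleton_le_iff_mem _ _).mpr hv)
  refine Submodule.span_mono ?_
  rintro _ ⟨l, hl, rfl⟩
  have h : l.Perm [] := perm_of_wt_eq b (ρ := ρ) (by simpa using hl)
  rw [h.eq_nil]
  rfl

/-- A weight vector killed by all raising operators has the highest weight. -/
theorem exists_raise {x : L} {l : List ι} (hl : l ≠ []) (hx : x ∈ rs H (wt b ρ l)) (hx0 : x ≠ 0) :
    ∃ i, ⁅b.e i, x⁆ ≠ 0 := by
  by_contra hc
  have hk : ∀ i, ⁅b.e i, x⁆ = 0 := fun i => not_not.mp fun h => hc ⟨i, h⟩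
  obtain ⟨m, hm⟩ := exists_wt b hx hx0 hk hv hv0
  have : (l ++ m).Perm [] := perm_of_sum_eq b (by
    simp only [wt, sub_sub] at hm
    simpa using sub_eq_self.mp hm)
  exact hl (List.append_eq_nil_iff.mp this.eq_nil).1

/-- Weight vectors in a stable subspace descend to every smaller depth. -/
theorem descend {W : Submodule K L} (hW : ∀ i, ∀ w ∈ W, ⁅b.e i, w⁆ ∈ W) (n : ℕ) :
    ∀ (N : ℕ) (l : List ι) (x : L), l.length = N → n ≤ N → x ∈ W → x ∈ rs H (wt b ρ l) → x ≠ 0 →
      ∃ (l' : List ι) (y : L), l'.length = n ∧ y ∈ W ∧ y ∈ rs H (wt b ρ l') ∧ y ≠ 0 := by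
  intro N
  induction N using Nat.strong_induction_on with
  | _ N ih =>
    intro l x hl hn hxW hx hx0
    rcases hn.eq_or_lt with rfl | hlt
    · exact ⟨l, x, hl, hxW, hx, hx0⟩
    obtain ⟨i, hi⟩ := exists_raise b hv hv0 he (l := l) (by rintro rfl; simp at hl; omega) hx hx0
    have hmem := lie_mem_rs (e_mem b i) hx
    obtain ⟨l', hl'⟩ := exists_wt b hv hv0 he hmem hi
    have hp : l.Perm (i :: l') := perm_of_sum_eq b (by
      simp only [wt] at hl'
      simp only [List.map_cons, List.sum_cons]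
      linear_combination (norm := module) hl')
    have hlen : l'.length + 1 = N := by rw [← hl, hp.length_eq]; simp
    exact ih l'.length (by omega) l' _ rfl (by omega) (hW i x hxW) (hl' ▸ hmem) hi

end Primitive

theorem rs_eq_bot_of_lt {ρ : Dual K H} {v : L} (hv : v ∈ rs H ρ) (hv0 : v ≠ 0)
    (he : ∀ i, ⁅b.e i, v⁆ = 0) {μ : Dual K H} (h : ∀ l, wt b ρ l ≠ μ) : rs H μ = ⊥ :=
  (Submodule.eq_bot_iff _).mpr fun x hx => not_not.mp fun hx0 => by
    obtain ⟨l, hl⟩ := exists_wt b hv hv0 he hx hx0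
    exact h l hl

/-- An `H`-stable subspace is spanned by its weight vectors. -/
theorem stable_le {W P : Submodule K L} (hW : ∀ (h : H), ∀ w ∈ W, ⁅(h : L), w⁆ ∈ W)
    (hP : ∀ (μ : Dual K H), ∀ x ∈ W, x ∈ rs H μ → x ∈ P) : W ≤ P := by
  let N : LieSubmodule K H L := { toSubmodule := W, lie_mem := fun {h w} hw => hW h w hw }
  intro w hw
  have htop : (⟨w, hw⟩ : N) ∈ ⨆ χ : Weight K H N, genWeightSpace N χ := by
    rw [iSup_genWeightSpace_eq_top']; trivial
  suffices key : ∀ z : N, z ∈ ⨆ χ : Weight K H N, genWeightSpace N χ → (z : L) ∈ P from key _ htop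
  intro z hz
  induction hz using LieSubmodule.iSup_induction' with
  | mem χ y hy =>
    have hy' : (y : L) ∈ genWeightSpace L (χ : H → K) :=
      (map_genWeightSpace_le (f := N.incl) (χ := (χ : H → K))) ⟨y, hy, rfl⟩
    exact hP χ.toLinear y y.2 hy'
  | zero => exact P.zero_mem
  | add u u' _ _ hu hu' => exact P.add_mem hu hu'

theorem borel_lie {W : Submodule K L} (hH : ∀ (h : H), ∀ w ∈ W, ⁅(h : L), w⁆ ∈ W)
    (hE : ∀ i, ∀ w ∈ W, ⁅b.e i, w⁆ ∈ W) :
    ∀ x ∈ H.toSubmodule ⊔ (b.borelUpper : Submodule K L), ∀ w ∈ W, ⁅x, w⁆ ∈ W := by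
  intro x hx
  obtain ⟨p, hp, q, hq, rfl⟩ := Submodule.mem_sup.mp hx
  have hq' : ∀ w ∈ W, ⁅q, w⁆ ∈ W := by
    have hq'' : q ∈ LieSubalgebra.lieSpan K L (range b.e) := hq
    clear hq hx
    induction hq'' using LieSubalgebra.lieSpan_induction with
    | mem u hu => obtain ⟨i, rfl⟩ := hu; exact hE i
    | zero => intro m _; simp
    | add u w _ _ hu hw => intro m hm; rw [add_lie]; exact add_mem (hu m hm) (hw m hm)
    | smul t u _ hu => intro m hm; rw [smul_lie]; exact W.smul_mem t (hu m hm)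
    | lie u w _ _ hu hw =>
      intro m hm; rw [lie_lie]; exact sub_mem (hu _ (hw m hm)) (hw _ (hu m hm))
  intro w hw
  rw [add_lie]
  exact add_mem (hH ⟨p, hp⟩ w hw) (hq' w hw)

theorem stable_of_borel {W : Submodule K L}
    (hst : ∀ x ∈ H.toSubmodule ⊔ (b.borelUpper : Submodule K L), ∀ w ∈ W, ⁅x, w⁆ ∈ W) :
    (∀ (h : H), ∀ w ∈ W, ⁅(h : L), w⁆ ∈ W) ∧ ∀ i, ∀ w ∈ W, ⁅b.e i, w⁆ ∈ W :=
  ⟨fun h w hw => hst _ (Submodule.mem_sup_left h.2) w hw, fun i w hw =>
    hst _ (Submodule.mem_sup_right (LieSubalgebra.subset_lieSpan (mem_range_self i))) w hw⟩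

end Groth.Agent.AdjVarLib
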