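import Groth.Agent.AdjVarLib.Top

/-!
The five-dimensional subalgebra generated by a twistor conic and a Borel-stable line.
-/

set_option autoImplicit false
set_option linter.style.haveILetI false
set_option linter.unusedSectionVars false
set_option backward.isDefEq.respectTransparency.types false

open LieAlgebra LieModule Module Set

namespace Groth.Agent.AdjVarLib

/-- A solvable ideal cannot contain an `sl₂` triple. -/
theorem not_isSolvable_of_sl2 {K A : Type*} [Field K] [CharZero K] [LieRing A] [LieAlgebra K A]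
    (I : LieIdeal K A) {h e f : A} (t : IsSl2Triple h e f) (he : e ∈ I) : ¬ IsSolvable I := by
  intro hs
  obtain ⟨k, hk⟩ := (LieAlgebra.isSolvable_iff K _).mp hs
  rw [LieIdeal.derivedSeries_eq_bot_iff] at hk
  have hh : h ∈ I := by rw [← t.lie_e_f]; exact lie_mem_left K A I e f he
  have hf : f ∈ I := by
    have : (2 : K) • f ∈ I := by rw [← neg_neg ((2 : K) • f), ← t.lie_lie_smul_f (R := K)]; exact neg_mem (lie_mem_left K A I h f hh)
    exact (I.toSubmodule.smul_mem_iff two_ne_zero).mp this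
  have key : ∀ n, h ∈ derivedSeriesOfIdeal K A n I ∧ e ∈ derivedSeriesOfIdeal K A n I ∧
      f ∈ derivedSeriesOfIdeal K A n I := by
    intro n
    induction n with
    | zero => exact ⟨hh, he, hf⟩
    | succ n ih =>
      obtain ⟨ih1, ih2, ih3⟩ := ih
      rw [derivedSeriesOfIdeal_succ]
      refine ⟨?_, ?_, ?_⟩
      · rw [← t.lie_e_f]; exact LieSubmodule.lie_mem_lie ih2 ih3
      · refine ((⁅derivedSeriesOfIdeal K A n I, derivedSeriesOfIdeal K A n I⁆ : LieIdeal K A).toSubmodule.smul_mem_iff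
          (two_ne_zero : (2 : K) ≠ 0)).mp ?_
        rw [← t.lie_h_e_smul (R := K)]
        exact LieSubmodule.lie_mem_lie ih1 ih2
      · refine ((⁅derivedSeriesOfIdeal K A n I, derivedSeriesOfIdeal K A n I⁆ : LieIdeal K A).toSubmodule.smul_mem_iff
          (two_ne_zero : (2 : K) ≠ 0)).mp ?_
        rw [← neg_neg ((2 : K) • f), ← t.lie_lie_smul_f (R := K)]
        exact neg_mem (LieSubmodule.lie_mem_lie ih1 ih3)
  have := (key k).2.1
  rw [hk, LieSubmodule.mem_bot] at this
  exact t.e_ne_zero this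

variable {ι K L : Type*} [Fintype ι] [Field K] [CharZero K] [IsAlgClosed K] [LieRing L] [LieAlgebra K L]
  [FiniteDimensional K L] [LieAlgebra.IsSimple K L]
  {H : LieSubalgebra K L} [H.IsCartanSubalgebra] {b : LieAlgebra.Basis ι H} {ρ : Dual K H} {v : L} {j : ι}

theorem rs_neg_eq_bot {μ : Dual K H} (h : rs H μ = ⊥) : rs H (-μ) = ⊥ := by
  refine (Submodule.eq_bot_iff _).mpr fun x hx => ?_
  by_contra hx0
  obtain ⟨y, hy, hy0⟩ := exists_neg hx hx0
  rw [neg_neg, h, Submodule.mem_bot] at hy
  exact hy0 hy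

set_option maxHeartbeats 1000000 in
theorem five (T : Top b ρ v j) (htop : rs H (ρ + b.baseSupp j) = ⊥) (A : LieSubalgebra K L)
    (hA : A = LieSubalgebra.lieSpan K L
      ((rs H ρ : Set L) ∪ (rs H (-ρ) : Set L) ∪ (rs H (ρ - b.baseSupp j) : Set L))) :
    finrank K A = 5 ∧ finrank K (LieAlgebra.radical K A) = 2 ∧
      (LieAlgebra.radical K A).toSubmodule.map (A.incl : A →ₗ⁅K⁆ L).toLinearMap =
        rs H (ρ - b.baseSupp j) ⊔ rs H (-b.baseSupp j) := by
  -- basic facts on the weights
  have hαj : b.baseSupp j (b.h' j) = 2 := by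
    have : IsAddTorsionFree L := .of_isTorsionFree K L
    rw [b.baseSupp_apply_h', b.A_diag_eq_two]; norm_num
  have hρ0 : ρ ≠ 0 := fun h => by simpa [h] using T.one
  have hα0 : b.baseSupp j ≠ 0 := fun h => by rw [h] at hαj; simp at hαj
  obtain ⟨m, hm⟩ := exists_wt b T.mem T.ne T.kill (e_mem b j) (b.sl2 j).e_ne_zero
  have hρm : ρ = b.baseSupp j + (m.map b.baseSupp).sum := by rw [← hm, wt]; abel
  -- the triple attached to the highest root
  let αρ : Weight K H L := ⟨(ρ : H → K), fun h => T.ne (by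
    have : v ∈ (genWeightSpace L (ρ : H → K) : LieSubmodule K H L) := T.mem
    rwa [h, LieSubmodule.mem_bot] at this)⟩
  have hαρ : αρ.IsNonZero := fun h => hρ0 (LinearMap.ext fun y => congrFun h y)
  obtain ⟨h, e, f, t, he, hf⟩ := IsKilling.exists_isSl2Triple_of_weight_isNonZero hαρ
  have he' : e ∈ rs H ρ := he
  have hf' : f ∈ rs H (-ρ) := hf
  have hh : h ∈ rs H (0 : Dual K H) := by
    rw [← t.lie_e_f, show (0 : Dual K H) = ρ + -ρ by abel]; exact lie_mem_rs he' hf'
  have hh0 : h ≠ 0 := t.h_ne_zero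
  have hhH : h ∈ H := by
    have : h ∈ (rootSpace H (0 : H → K) : LieSubmodule K H L) := hh
    rwa [rootSpace_zero_eq] at this
  obtain ⟨a, ha⟩ : ∃ a : H, (a : L) = h := ⟨⟨h, hhH⟩, rfl⟩
  have hρa : ρ a = 2 := by
    have h' := lie_of_mem he' a
    rw [ha, t.lie_h_e_smul (R := K)] at h'
    exact (smul_left_injective K t.e_ne_zero h').symm
  have hve : rs H ρ = K ∙ e := rs_eq_span hρ0 he' t.e_ne_zero
  have hfr : rs H (-ρ) = K ∙ f := rs_eq_span (neg_ne_zero.mpr hρ0) hf' t.f_ne_zero
  set u := ⁅b.f j, v⁆ with hu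
  have hu' : u ∈ rs H (ρ - b.baseSupp j) := T.u1_mem
  have hw : b.f j ∈ rs H (-b.baseSupp j) := f_mem b j
  have hur : rs H (ρ - b.baseSupp j) = K ∙ u := T.rs_one
  have hwr : rs H (-b.baseSupp j) = K ∙ b.f j :=
    rs_eq_span (neg_ne_zero.mpr hα0) hw (b.sl2 j).f_ne_zero
  set I := rs H (ρ - b.baseSupp j) ⊔ rs H (-b.baseSupp j) with hI
  have hIs : I = Submodule.span K {u, b.f j} := by
    rw [hI, hur, hwr, Submodule.span_insert]
  have uI : u ∈ I := Submodule.mem_sup_left hu'
  have wI : b.f j ∈ I := Submodule.mem_sup_right hw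
  -- products
  have heu : ⁅e, u⁆ = 0 := by
    by_contra hne
    obtain ⟨l, hl⟩ := exists_wt b T.mem T.ne T.kill (lie_mem_rs he' hu') hne
    have h1 : (m ++ l).Perm [] := perm_of_sum_eq b (by
      simp only [wt] at hl
      simp only [List.map_append, List.sum_append, List.map_nil, List.sum_nil]
      linear_combination (norm := module) -hl - hρm)
    rw [(List.append_eq_nil_iff.mp h1.eq_nil).1] at hρm
    simp only [List.map_nil, List.sum_nil, add_zero] at hρm
    have h2 := T.one
    rw [hρm, hαj] at h2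
    norm_num at h2
  have hew : ⁅e, b.f j⁆ ∈ I := Submodule.mem_sup_left (by
    rw [show ρ - b.baseSupp j = ρ + -b.baseSupp j by abel]; exact lie_mem_rs he' hw)
  have hfu : ⁅f, u⁆ ∈ I := Submodule.mem_sup_right (by
    rw [show -b.baseSupp j = -ρ + (ρ - b.baseSupp j) by abel]; exact lie_mem_rs hf' hu')
  have hfw : ⁅f, b.f j⁆ = 0 := by
    have h' := lie_mem_rs hf' hw
    rw [show -ρ + -b.baseSupp j = -(ρ + b.baseSupp j) by abel, rs_neg_eq_bot htop] at h'
    exact (Submodule.mem_bot K).mp h'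
  have huw : ⁅u, b.f j⁆ = 0 := by rw [← lie_skew, T.ff, neg_zero]
  have hT : ∀ x ∈ ({e, f, h} : Set L), ∀ y ∈ I, ⁅x, y⁆ ∈ I := by
    intro x hx y hy
    rw [hIs] at hy
    induction hy using Submodule.span_induction with
    | mem z hz =>
      rcases hz with rfl | rfl <;> rcases hx with rfl | rfl | rfl
      · rw [heu]; exact zero_mem _
      · exact hfu
      · rw [← ha, lie_of_mem hu' a]; exact I.smul_mem _ uI
      · exact hew
      · rw [hfw]; exact zero_mem _
      · rw [← ha, lie_of_mem hw a]; exact I.smul_mem _ wI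
    | zero => simp
    | add z z' _ _ hz hz' => rw [lie_add]; exact add_mem hz hz'
    | smul c z _ hz => rw [lie_smul]; exact I.smul_mem c hz
  set S := (t.toLieSubalgebra K).toSubmodule with hS
  have hSs : S = Submodule.span K {e, f, h} := rfl
  have hTS : ∀ x ∈ S, ∀ y ∈ I, ⁅x, y⁆ ∈ I := by
    intro x hx y hy
    rw [hSs] at hx
    induction hx using Submodule.span_induction with
    | mem z hz => exact hT z hz y hy
    | zero => simp
    | add z z' _ _ hz hz' => rw [add_lie]; exact add_mem hz hz'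
    | smul c z _ hz => rw [smul_lie]; exact I.smul_mem c hz
  have hII : ∀ x ∈ I, ∀ y ∈ I, ⁅x, y⁆ = 0 := by
    intro x hx y hy
    rw [hIs, Submodule.mem_span_pair] at hx hy
    obtain ⟨a₁, a₂, rfl⟩ := hx
    obtain ⟨c₁, c₂, rfl⟩ := hy
    simp [huw, ← lie_skew (b.f j) u]
  have eS : e ∈ S := Submodule.subset_span (by simp)
  have fS : f ∈ S := Submodule.subset_span (by simp)
  have hSmem : h ∈ S := Submodule.subset_span (by simp)
  -- `f_j` is reached
  have hd : ⁅f, u⁆ ≠ 0 := by
    intro h0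
    have hev : ∃ c : K, v = c • e := by
      obtain ⟨c, hc⟩ := Submodule.mem_span_singleton.mp (hve ▸ T.mem : v ∈ K ∙ e)
      exact ⟨c, hc.symm⟩
    obtain ⟨c, hc⟩ := hev
    have hu1 : u = -c • ⁅e, b.f j⁆ := by
      rw [hu, hc, lie_smul, ← lie_skew (b.f j) e, smul_neg, neg_smul]
    have hc0 : c ≠ 0 := fun h1 => T.ne (by rw [hc, h1, zero_smul])
    rw [hu1, lie_smul, leibniz_lie, hfw, lie_zero, add_zero, ← lie_skew f e, t.lie_e_f, neg_lie,
      smul_neg, neg_eq_zero, smul_eq_zero] at h0
    have hh0' : ⁅h, b.f j⁆ = 0 := h0.resolve_left (neg_ne_zero.mpr hc0)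
    have P : IsSl2Triple.HasPrimitiveVectorWith t.symm (b.f j) (0 : K) :=
      ⟨(b.sl2 j).f_ne_zero, by rw [zero_smul, neg_lie, hh0', neg_zero], hfw⟩
    have h1 : ⁅e, b.f j⁆ = 0 := by
      simpa [LieModule.toEnd_apply_apply] using P.pow_toEnd_f_eq_zero_of_eq_nat (n := 0) (by simp)
    exact T.u1_ne (by rw [← hu, hu1, h1, smul_zero])
  -- the subalgebra
  let B : LieSubalgebra K L :=
    { toSubmodule := S ⊔ I
      lie_mem' := by
        intro x y hx hy
        obtain ⟨x₁, hx₁, x₂, hx₂, rfl⟩ := Submodule.mem_sup.mp hx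
        obtain ⟨y₁, hy₁, y₂, hy₂, rfl⟩ := Submodule.mem_sup.mp hy
        rw [add_lie, lie_add, lie_add, hII x₂ hx₂ y₂ hy₂, add_zero, ← lie_skew x₂ y₁]
        exact add_mem (add_mem (Submodule.mem_sup_left ((t.toLieSubalgebra K).lie_mem hx₁ hy₁))
          (Submodule.mem_sup_right (hTS _ hx₁ _ hy₂))) (neg_mem (Submodule.mem_sup_right (hTS _ hy₁ _ hx₂))) }
  have hAB : A = B := by
    subst hA
    refine le_antisymm (LieSubalgebra.lieSpan_le.mpr (union_subset (union_subset ?_ ?_) ?_)) ?_
    · rw [hve]; exact (Submodule.span_singleton_le_iff_mem _ _).mpr (Submodule.mem_sup_left eS)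
    · rw [hfr]; exact (Submodule.span_singleton_le_iff_mem _ _).mpr (Submodule.mem_sup_left fS)
    · exact fun x hx => Submodule.mem_sup_right (Submodule.mem_sup_left hx)
    · set A' := LieSubalgebra.lieSpan K L
        ((rs H ρ : Set L) ∪ (rs H (-ρ) : Set L) ∪ (rs H (ρ - b.baseSupp j) : Set L)) with hA'
      have e1 : e ∈ A' := LieSubalgebra.subset_lieSpan (Or.inl (Or.inl he'))
      have f1 : f ∈ A' := LieSubalgebra.subset_lieSpan (Or.inl (Or.inr hf'))
      have u1 : u ∈ A' := LieSubalgebra.subset_lieSpan (Or.inr hu')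
      have h1 : h ∈ A' := t.lie_e_f ▸ A'.lie_mem e1 f1
      have w1 : b.f j ∈ A' := by
        have h2 := A'.lie_mem f1 u1
        have h3 : ⁅f, u⁆ ∈ rs H (-b.baseSupp j) := by
          rw [show -b.baseSupp j = -ρ + (ρ - b.baseSupp j) by abel]; exact lie_mem_rs hf' hu'
        rw [hwr] at h3
        obtain ⟨d, hd'⟩ := Submodule.mem_span_singleton.mp h3
        rw [← hd'] at h2 hd
        exact (A'.toSubmodule.smul_mem_iff (fun hd0 => hd (by rw [hd0, zero_smul]))).mp h2
      change S ⊔ I ≤ A'.toSubmodule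
      rw [hSs, hIs]
      refine sup_le (Submodule.span_le.mpr ?_) (Submodule.span_le.mpr ?_) <;>
        simp [Set.insert_subset_iff, e1, f1, h1, u1, w1]
  subst hAB
  have memI : ∀ x ∈ I, x ∈ B := fun x hx => Submodule.mem_sup_right hx
  -- the dimension
  have hne1 : ρ - b.baseSupp j ≠ -ρ := fun hc => by
    have h1 : ([j] ++ m ++ m).Perm [] := perm_of_sum_eq b (by
      simp only [List.map_append, List.sum_append, List.map_nil, List.sum_nil, List.map_cons, List.sum_cons]
      linear_combination (norm := module) hc - hρm - hρm)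
    simpa using h1.length_eq
  have key : ∀ p q : Dual K H, p (b.h' j) ≠ q (b.h' j) → p ≠ q := fun p q hpq he => hpq (by rw [he])
  have dj : LinearIndependent K ![e, f, h, u, b.f j] := by
    refine linearIndependent_of_mem ![ρ, -ρ, 0, ρ - b.baseSupp j, -b.baseSupp j] ?_ _ ?_ ?_
    · intro x y hxy
      by_contra hne
      fin_cases x <;> fin_cases y <;>
        first
        | exact hne rfl
        | exact hne1 hxy
        | exact hne1 hxy.symm
        | (refine key _ _ ?_ hxy; simp [T.one, hαj]; norm_num)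
        | (refine key _ _ ?_ hxy; simp [T.one, hαj])
    · intro k
      fin_cases k
      exacts [he', hf', hh, hu', hw]
    · intro k
      fin_cases k
      exacts [t.e_ne_zero, t.f_ne_zero, hh0, T.u1_ne, (b.sl2 j).f_ne_zero]
  have hB5 : finrank K B = 5 := by
    show finrank K ↥(S ⊔ I) = 5
    have : S ⊔ I = Submodule.span K (range ![e, f, h, u, b.f j]) := by
      rw [hSs, hIs, ← Submodule.span_union]
      congr 1
      ext z
      simp [Matrix.range_cons, Matrix.range_empty]
      tauto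
    rw [this, finrank_span_eq_card dj]; rfl
  have du : LinearIndependent K ![u, b.f j] := by
    have := dj.comp ![3, 4] (by intro a c hac; fin_cases a <;> fin_cases c <;> simp_all)
    have e' : (![e, f, h, u, b.f j] ∘ ![3, 4]) = ![u, b.f j] := by funext k; fin_cases k <;> rfl
    rwa [e'] at this
  have hI2 : finrank K I = 2 := by
    rw [hIs, show ({u, b.f j} : Set L) = range ![u, b.f j] by ext z; simp [Matrix.range_cons, Matrix.range_empty]; tauto,
      finrank_span_eq_card du]
    rfl
  -- the radical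
  let J : LieIdeal K B :=
    { toSubmodule := I.comap B.toSubmodule.subtype
      lie_mem := by
        intro x y hy
        obtain ⟨x₁, hx₁, x₂, hx₂, hx⟩ := Submodule.mem_sup.mp x.2
        show ⁅(x : L), (y : L)⁆ ∈ I
        rw [← hx, add_lie, hII x₂ hx₂ (y : L) hy, add_zero]
        exact hTS _ hx₁ _ hy }
  haveI : IsLieAbelian J := ⟨fun x y => Subtype.ext (Subtype.ext (hII _ x.2 _ y.2))⟩
  have hJ : J ≤ radical K B := (LieIdeal.solvable_iff_le_radical K B J).mp inferInstance
  have hR : radical K B ≤ J := by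
    intro x hx
    by_contra hxJ
    obtain ⟨x₁, hx₁, x₂, hx₂, hx12⟩ := Submodule.mem_sup.mp x.2
    have hxI : x₁ ∉ I := fun hc => hxJ (show (x : L) ∈ I by rw [← hx12]; exact add_mem hc hx₂)
    let R := (radical K B).toSubmodule.map B.toSubmodule.subtype
    have hIR : I ≤ R := fun z hz => ⟨⟨z, memI z hz⟩, hJ (show (⟨z, memI z hz⟩ : B) ∈ J from hz), rfl⟩
    have hBR : ∀ y ∈ B, ∀ z ∈ R, ⁅y, z⁆ ∈ R := by
      rintro y hy _ ⟨z, hz, rfl⟩
      exact ⟨⁅(⟨y, hy⟩ : B), z⁆, lie_mem_right K B (radical K B) _ _ hz, rfl⟩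
    have hx1R : x₁ ∈ R := by
      have : (x : L) ∈ R := ⟨x, hx, rfl⟩
      rw [← hx12] at this
      exact (Submodule.add_mem_iff_left _ (hIR hx₂)).mp this
    have eB : e ∈ B := Submodule.mem_sup_left eS
    have heR : e ∈ R := by
      rw [hSs, Submodule.mem_span_triple] at hx₁
      obtain ⟨p, q, r, rfl⟩ := hx₁
      have e1 : ⁅e, p • e + q • f + r • h⁆ = q • h - (2 * r) • e := by
        rw [lie_add, lie_add, lie_smul, lie_smul, lie_smul, lie_self, t.lie_e_f, ← lie_skew e h,
          t.lie_h_e_smul (R := K)]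
        module
      have h1 : ⁅e, p • e + q • f + r • h⁆ ∈ R := hBR e eB _ hx1R
      have h2 : ⁅e, q • h - (2 * r) • e⁆ ∈ R := by rw [← e1]; exact hBR e eB _ h1
      have e2 : ⁅e, q • h - (2 * r) • e⁆ = (-2 * q) • e := by
        rw [lie_sub, lie_smul, lie_smul, lie_self, ← lie_skew e h, t.lie_h_e_smul (R := K)]
        module
      rw [e2] at h2
      rw [e1] at h1
      by_cases hq : q = 0
      · subst hq
        by_cases hr : r = 0
        · subst hr
          have hp : p ≠ 0 := by rintro rfl; simp at hxI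
          exact (R.smul_mem_iff hp).mp (by simpa using hx1R)
        · refine (R.smul_mem_iff (mul_ne_zero two_ne_zero hr)).mp ?_
          rw [← neg_mem_iff]
          simpa using h1
      · exact (R.smul_mem_iff (mul_ne_zero (by norm_num) hq)).mp h2
    obtain ⟨e', he1, he2⟩ := heR
    let hB : B := ⟨h, Submodule.mem_sup_left hSmem⟩
    let fB : B := ⟨f, Submodule.mem_sup_left fS⟩
    have tB : IsSl2Triple hB e' fB :=
      { h_ne_zero := fun h0 => hh0 (congrArg Subtype.val h0)
        lie_e_f := Subtype.ext (by show ⁅(e' : L), f⁆ = h; rw [show (e' : L) = e from he2, t.lie_e_f])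
        lie_h_e_nsmul := Subtype.ext (by
          show ⁅h, (e' : L)⁆ = 2 • (e' : L); rw [show (e' : L) = e from he2, t.lie_h_e_nsmul])
        lie_h_f_nsmul := Subtype.ext (by show ⁅h, f⁆ = -(2 • f); exact t.lie_h_f_nsmul) }
    exact not_isSolvable_of_sl2 (radical K B) tB he1 inferInstance
  have hrad : radical K B = J := le_antisymm hR hJ
  refine ⟨hB5, ?_, ?_⟩
  · rw [hrad, ← hI2]
    exact (Submodule.comapSubtypeEquivOfLe (show I ≤ B.toSubmodule from le_sup_right)).finrank_eq
  · rw [hrad]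
    show (I.comap B.toSubmodule.subtype).map B.toSubmodule.subtype = I
    rw [Submodule.map_comap_subtype]
    exact inf_eq_right.mpr le_sup_right

end Groth.Agent.AdjVarLib
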