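import Groth.Agent.AdjVarLib.Top

/-!
Borel-stable three-dimensional subspaces of the adjoint representation.
-/

set_option autoImplicit false
set_option linter.style.haveILetI false
set_option linter.unusedSectionVars false
set_option backward.isDefEq.respectTransparency.types false

open LieAlgebra LieModule Module Set

namespace Groth.Agent.AdjVarLib

variable {ι K L : Type*} [Fintype ι] [Field K] [CharZero K] [IsAlgClosed K] [LieRing L] [LieAlgebra K L]
  [FiniteDimensional K L] [LieAlgebra.IsSimple K L]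
  {H : LieSubalgebra K L} [H.IsCartanSubalgebra] {b : LieAlgebra.Basis ι H} {ρ : Dual K H} {v : L} {j : ι}

theorem three (T : Top b ρ v j) (W : Submodule K L) (hW : finrank K W = 3)
    (hH : ∀ (h : H), ∀ w ∈ W, ⁅(h : L), w⁆ ∈ W) (hE : ∀ i, ∀ w ∈ W, ⁅b.e i, w⁆ ∈ W) :
    ∃ i, ⁅b.f i, ⁅b.f j, v⁆⁆ ≠ 0 ∧
      W = Submodule.span K (range ![v, ⁅b.f j, v⁆, ⁅b.f i, ⁅b.f j, v⁆⁆]) := by
  have h2 : finrank K ↥(Submodule.span K (range ![v, ⁅b.f j, v⁆])) = 2 := by
    rw [finrank_span_eq_card T.indep_pair]; rfl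
  obtain ⟨i, hi, hv, hu, hz⟩ : ∃ i, ⁅b.f i, ⁅b.f j, v⁆⁆ ≠ 0 ∧ v ∈ W ∧ ⁅b.f j, v⁆ ∈ W ∧
      ⁅b.f i, ⁅b.f j, v⁆⁆ ∈ W := by
    by_contra hc
    have hle : W ≤ Submodule.span K (range ![v, ⁅b.f j, v⁆]) := stable_le hH fun μ x hxW hx => by
      rcases eq_or_ne x 0 with rfl | hx0
      · exact zero_mem _
      obtain ⟨hv, h1⟩ := T.exists_depth hE hxW hx hx0
      by_cases hμ : μ = ρ
      · subst hμ
        rw [T.rs_top] at hx
        exact Submodule.span_mono (by simp [Matrix.range_cons]) hx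
      by_cases hμ' : μ = ρ - b.baseSupp j
      · subst hμ'
        rw [T.rs_one] at hx
        exact Submodule.span_mono (by simp [Matrix.range_cons]) hx
      obtain ⟨hu, h3⟩ := h1 hμ
      obtain ⟨i, hi, hz⟩ := h3 hμ'
      exact absurd ⟨i, hi, hv, hu, hz⟩ hc
    have := Submodule.finrank_mono hle
    omega
  refine ⟨i, hi, (Submodule.eq_of_le_of_finrank_eq (Submodule.span_le.mpr ?_) ?_).symm⟩
  · rintro _ ⟨k, rfl⟩
    fin_cases k
    exacts [hv, hu, hz]
  · rw [finrank_span_eq_card (T.indep hi), hW]; rfl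

end Groth.Agent.AdjVarLib
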