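import Groth.Agent.AdjVarLib.Basic

/-!
The top three layers of the root poset below the highest root.
-/

set_option autoImplicit false
set_option linter.style.haveILetI false
set_option linter.unusedSectionVars false
set_option backward.isDefEq.respectTransparency.types false

open LieAlgebra LieModule Module Set

namespace Groth.Agent.AdjVarLib

variable {ι K L : Type*} [Fintype ι] [Field K] [CharZero K] [IsAlgClosed K] [LieRing L] [LieAlgebra K L]
  [FiniteDimensional K L] [LieAlgebra.IsSimple K L]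
  {H : LieSubalgebra K L} [H.IsCartanSubalgebra]

/-- The configuration: a highest root vector `v`, and the only simple root `j` not orthogonal to it. -/
def Top (b : LieAlgebra.Basis ι H) (ρ : Dual K H) (v : L) (j : ι) : Prop :=
  (∀ h : H, ⁅(h : L), v⁆ = ρ h • v) ∧ v ≠ 0 ∧ (∀ i, ⁅b.e i, v⁆ = 0) ∧
    (∀ i, ρ (b.h' i) ≠ 0 ↔ i = j) ∧ ρ (b.h' j) = 1

variable {b : LieAlgebra.Basis ι H} {ρ : Dual K H} {v : L} {j : ι}

theorem exists_top (hρ : rootSpace H ρ ≠ ⊥) (htop : ∀ i, rootSpace H (ρ + b.baseSupp i) = ⊥)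
    (hN : ∀ i, ρ (b.h' i) ≠ 0 ↔ i = j) (hj : ρ (b.h' j) = 1) : ∃ v, Top b ρ v j := by
  have hne : rs H ρ ≠ ⊥ := fun h => hρ (rs_eq_bot_iff.mpr h)
  obtain ⟨v, hv, hv0⟩ := (Submodule.ne_bot_iff (rs H ρ)).mp hne
  have h1 : ∀ h : H, ⁅(h : L), v⁆ = ρ h • v := fun h => lie_of_mem hv h
  refine Exists.intro v (And.intro h1 (And.intro hv0 (And.intro (fun i => ?_) (And.intro hN hj))))
  have h := lie_mem_rs (e_mem b i) hv
  have h2 : rootSpace H ((ρ + b.baseSupp i : Dual K H) : H → K) = ⊥ := by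
    convert htop i using 2; exact funext fun _ => rfl
  rw [add_comm, rs_eq_bot_iff.mp h2] at h
  exact (Submodule.mem_bot K).mp h

theorem lie_f_eq_zero_of_weight_zero {k : ι} {x : L} (he : ⁅b.e k, x⁆ = 0) (hh : ⁅b.h k, x⁆ = 0) :
    ⁅b.f k, x⁆ = 0 := by
  rcases eq_or_ne x 0 with rfl | hx
  · simp
  have P : IsSl2Triple.HasPrimitiveVectorWith (b.sl2 k) x (0 : K) := ⟨hx, by simp [hh], he⟩
  simpa [LieModule.toEnd_apply_apply] using P.pow_toEnd_f_eq_zero_of_eq_nat (n := 0) (by simp)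

theorem lie_f_f_eq_zero {i k : ι} (hik : i ≠ k) (hA : b.A i k = 0) : ⁅b.f k, b.f i⁆ = 0 :=
  lie_f_eq_zero_of_weight_zero (b.lie_e_f_ne k i hik.symm) (by rw [b.lie_h_f, hA]; simp)

namespace Top

variable (T : Top b ρ v j)
include T

theorem lie : ∀ h : H, ⁅(h : L), v⁆ = ρ h • v := T.1

theorem ne : v ≠ 0 := T.2.1

theorem kill : ∀ i, ⁅b.e i, v⁆ = 0 := T.2.2.1

theorem orth : ∀ i, ρ (b.h' i) ≠ 0 ↔ i = j := T.2.2.2.1

theorem one : ρ (b.h' j) = 1 := T.2.2.2.2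

theorem mem : v ∈ rs H ρ := mem_of_lie T.lie

theorem f_v {i : ι} (hi : i ≠ j) : ⁅b.f i, v⁆ = 0 :=
  lie_f_eq_zero_of_weight_zero (T.kill i) (by
    rw [lie_h_of_mem b T.mem i, not_not.mp fun h => hi ((T.orth i).mp h), zero_smul])

theorem u1_mem : ⁅b.f j, v⁆ ∈ rs H (ρ - b.baseSupp j) := by
  rw [sub_eq_neg_add]
  exact lie_mem_rs (f_mem b j) T.mem

theorem e_u1 : ⁅b.e j, ⁅b.f j, v⁆⁆ = v := by
  rw [leibniz_lie, (b.sl2 j).lie_e_f, T.kill, lie_zero, add_zero, lie_h_of_mem b T.mem, T.one, one_smul]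

theorem e_u1_ne {i : ι} (hi : i ≠ j) : ⁅b.e i, ⁅b.f j, v⁆⁆ = 0 := by
  rw [leibniz_lie, b.lie_e_f_ne _ _ hi, zero_lie, T.kill, lie_zero, add_zero]

theorem u1_ne : ⁅b.f j, v⁆ ≠ 0 := fun h => T.ne (by rw [← T.e_u1, h, lie_zero])

theorem ff : ⁅b.f j, ⁅b.f j, v⁆⁆ = 0 := by
  have P : IsSl2Triple.HasPrimitiveVectorWith (b.sl2 j) v (1 : K) :=
    ⟨T.ne, by rw [lie_h_of_mem b T.mem, T.one], T.kill j⟩
  simpa [pow_succ, LieModule.toEnd_apply_apply] using P.pow_toEnd_f_eq_zero_of_eq_nat (n := 1) (by simp)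

theorem rs_top : rs H ρ = K ∙ v := rs_self b T.mem T.ne T.kill

theorem rs_one : rs H (ρ - b.baseSupp j) = K ∙ ⁅b.f j, v⁆ := by
  refine le_antisymm ((rs_le_span b T.mem T.ne T.kill _).trans (Submodule.span_mono ?_))
    ((Submodule.span_singleton_le_iff_mem _ _).mpr T.u1_mem)
  rintro _ ⟨l, hl, rfl⟩
  have h : l.Perm [j] := perm_of_sum_eq b (by
    simp only [mem_ofPred_eq, wt] at hl
    simpa using sub_right_injective hl)
  rw [List.perm_singleton.mp h]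
  rfl

theorem rs_one_ne {i : ι} (hi : i ≠ j) : rs H (ρ - b.baseSupp i) = ⊥ := by
  refine eq_bot_iff.mpr ((rs_le_span b T.mem T.ne T.kill _).trans (Submodule.span_le.mpr ?_))
  rintro _ ⟨l, hl, rfl⟩
  have h : l.Perm [i] := perm_of_sum_eq b (by
    simp only [mem_ofPred_eq, wt] at hl
    simpa using sub_right_injective hl)
  rw [List.perm_singleton.mp h]
  exact (Submodule.mem_bot K).mpr (T.f_v hi)

theorem u2_mem (i : ι) : ⁅b.f i, ⁅b.f j, v⁆⁆ ∈ rs H (ρ - b.baseSupp j - b.baseSupp i) := by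
  rw [sub_eq_neg_add]
  exact lie_mem_rs (f_mem b i) T.u1_mem

theorem rs_two (i : ι) : rs H (ρ - b.baseSupp j - b.baseSupp i) = K ∙ ⁅b.f i, ⁅b.f j, v⁆⁆ := by
  refine le_antisymm ((rs_le_span b T.mem T.ne T.kill _).trans ?_)
    ((Submodule.span_singleton_le_iff_mem _ _).mpr (T.u2_mem i))
  rw [Submodule.span_le]
  rintro _ ⟨l, hl, rfl⟩
  have hp : l.Perm [j, i] := perm_of_sum_eq b (by
    simp only [mem_ofPred_eq, wt, sub_sub] at hl
    simpa using sub_right_injective hl)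
  obtain ⟨a, c, rfl⟩ := List.length_eq_two.mp (by simpa using hp.length_eq)
  show ⁅b.f a, ⁅b.f c, v⁆⁆ ∈ K ∙ ⁅b.f i, ⁅b.f j, v⁆⁆
  by_cases hc : c = j
  · subst hc
    have : a = i := by
      have h2 := (List.perm_cons c).mp ((List.Perm.swap a c []).trans hp)
      simpa using List.perm_singleton.mp h2
    subst this
    exact Submodule.mem_span_singleton_self _
  · rw [T.f_v hc, lie_zero]; exact zero_mem _

theorem adj {i : ι} (h : ⁅b.f i, ⁅b.f j, v⁆⁆ ≠ 0) : i ≠ j ∧ b.A i j ≠ 0 ∧ b.A j i ≠ 0 := by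
  have hij : i ≠ j := fun hc => h (hc ▸ T.ff)
  have hu : ⁅b.f i, ⁅b.f j, v⁆⁆ = ⁅⁅b.f i, b.f j⁆, v⁆ := by
    rw [leibniz_lie, T.f_v hij, lie_zero, add_zero]
  rw [hu] at h
  refine ⟨hij, fun hA => h ?_, fun hA => h ?_⟩
  · rw [← lie_skew (b.f i) (b.f j), lie_f_f_eq_zero hij hA]; simp
  · rw [lie_f_f_eq_zero hij.symm hA]; simp

theorem e_u2 {i : ι} (hi : i ≠ j) :
    ⁅b.e i, ⁅b.f i, ⁅b.f j, v⁆⁆⁆ = -(b.A j i : K) • ⁅b.f j, v⁆ := by
  rw [leibniz_lie, (b.sl2 i).lie_e_f, T.e_u1_ne hi, lie_zero, add_zero, lie_h_of_mem b T.u1_mem,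
    LinearMap.sub_apply, not_not.mp fun h => hi ((T.orth i).mp h), b.baseSupp_apply_h', zero_sub]

theorem e_u2_ne {i k : ι} (hi : i ≠ j) (hk : k ≠ i) : ⁅b.e k, ⁅b.f i, ⁅b.f j, v⁆⁆⁆ = 0 := by
  rw [leibniz_lie, b.lie_e_f_ne _ _ hk, zero_lie, zero_add]
  rcases eq_or_ne k j with rfl | hkj
  · rw [T.e_u1, T.f_v hi]
  · rw [T.e_u1_ne hkj, lie_zero]

theorem indep {i : ι} (h : ⁅b.f i, ⁅b.f j, v⁆⁆ ≠ 0) :
    LinearIndependent K ![v, ⁅b.f j, v⁆, ⁅b.f i, ⁅b.f j, v⁆⁆] := by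
  have h2 : ρ ≠ ρ - b.baseSupp j := fun hc => by
    simpa using (perm_of_sum_eq b (l := []) (l' := [j]) (by simpa using sub_eq_self.mp hc.symm |>.symm)).length_eq
  have h3 : ρ ≠ ρ - b.baseSupp j - b.baseSupp i := fun hc => by
    rw [sub_sub] at hc
    simpa using (perm_of_sum_eq b (l := []) (l' := [j, i]) (by simpa using (sub_eq_self.mp hc.symm).symm)).length_eq
  have h4 : ρ - b.baseSupp j ≠ ρ - b.baseSupp j - b.baseSupp i := fun hc => by
    simpa using (perm_of_sum_eq b (l := []) (l' := [i]) (by simpa using (sub_eq_self.mp hc.symm).symm)).length_eq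
  refine linearIndependent_of_mem ![ρ, ρ - b.baseSupp j, ρ - b.baseSupp j - b.baseSupp i] ?_ _ ?_ ?_
  · intro x y hxy
    fin_cases x <;> fin_cases y <;>
      first | rfl | exact absurd hxy h2 | exact absurd hxy.symm h2 | exact absurd hxy h3 |
        exact absurd hxy.symm h3 | exact absurd hxy h4 | exact absurd hxy.symm h4
  · intro k
    fin_cases k
    exacts [T.mem, T.u1_mem, T.u2_mem i]
  · intro k
    fin_cases k
    exacts [T.ne, T.u1_ne, h]

theorem indep_pair : LinearIndependent K ![v, ⁅b.f j, v⁆] := by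
  rw [LinearIndependent.pair_iff]
  intro s t h
  have h' := congrArg (fun z => ⁅b.e j, z⁆) h
  simp only [lie_add, lie_smul, T.kill, T.e_u1, smul_zero, zero_add, lie_zero, smul_eq_zero, T.ne,
    or_false] at h'
  rw [h', zero_smul, add_zero, smul_eq_zero] at h
  exact ⟨h.resolve_right T.ne, h'⟩

theorem exists_depth {W : Submodule K L} (hE : ∀ i, ∀ w ∈ W, ⁅b.e i, w⁆ ∈ W) {μ : Dual K H} {x : L}
    (hxW : x ∈ W) (hx : x ∈ rs H μ) (hx0 : x ≠ 0) :
    v ∈ W ∧ (μ ≠ ρ → ⁅b.f j, v⁆ ∈ W ∧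
      (μ ≠ ρ - b.baseSupp j → ∃ i, ⁅b.f i, ⁅b.f j, v⁆⁆ ≠ 0 ∧ ⁅b.f i, ⁅b.f j, v⁆⁆ ∈ W)) := by
  obtain ⟨l, rfl⟩ := exists_wt b T.mem T.ne T.kill hx hx0
  have scale : ∀ {u y : L}, y ∈ K ∙ u → y ≠ 0 → y ∈ W → u ∈ W := by
    intro u y hy hy0 hyW
    obtain ⟨c, rfl⟩ := Submodule.mem_span_singleton.mp hy
    exact (W.smul_mem_iff fun hc => hy0 (by rw [hc, zero_smul])).mp hyW
  refine ⟨?_, fun h1 => ⟨?_, fun h2 => ?_⟩⟩
  · obtain ⟨l', y, hl', hy, hy', hy0⟩ := descend b T.mem T.ne T.kill hE 0 _ l x rfl (Nat.zero_le _) hxW hx hx0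
    rw [List.eq_nil_of_length_eq_zero hl', wt_nil, T.rs_top] at hy'
    exact scale hy' hy0 hy
  · have hlen : 1 ≤ l.length := Nat.one_le_iff_ne_zero.mpr fun h => h1 (by
      rw [List.eq_nil_of_length_eq_zero h, wt_nil])
    obtain ⟨l', y, hl', hy, hy', hy0⟩ := descend b T.mem T.ne T.kill hE 1 _ l x rfl hlen hxW hx hx0
    obtain ⟨a, rfl⟩ := List.length_eq_one_iff.mp hl'
    rw [wt_cons, wt_nil] at hy'
    rcases eq_or_ne a j with rfl | ha
    · rw [T.rs_one] at hy'; exact scale hy' hy0 hy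
    · rw [T.rs_one_ne ha, Submodule.mem_bot] at hy'; exact absurd hy' hy0
  · have hlen : 2 ≤ l.length := by
      rcases l with _ | ⟨a, _ | ⟨c, l⟩⟩
      · simp at h1
      · rw [wt_cons, wt_nil] at hx h2
        have ha : a ≠ j := fun h => h2 (by rw [h])
        rw [T.rs_one_ne ha, Submodule.mem_bot] at hx
        exact absurd hx hx0
      · simp
    obtain ⟨l', y, hl', hy, hy', hy0⟩ := descend b T.mem T.ne T.kill hE 2 _ l x rfl hlen hxW hx hx0
    obtain ⟨a, c, rfl⟩ := List.length_eq_two.mp hl'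
    have hne : ∃ i, wt b ρ [a, c] = ρ - b.baseSupp j - b.baseSupp i := by
      by_cases hc : c = j
      · exact ⟨a, by rw [wt_cons, wt_cons, wt_nil, hc]⟩
      by_cases ha : a = j
      · exact ⟨c, by rw [wt_cons, wt_cons, wt_nil, ha, sub_right_comm]⟩
      exfalso
      have hs := rs_le_span b T.mem T.ne T.kill _ hy'
      refine hy0 ((Submodule.mem_bot K).mp ((Submodule.span_le.mpr ?_ : _ ≤ (⊥ : Submodule K L)) hs))
      rintro _ ⟨m, hm, rfl⟩
      have hp : m.Perm [a, c] := perm_of_wt_eq b hm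
      obtain ⟨p, q, rfl⟩ := List.length_eq_two.mp (by simpa using hp.length_eq)
      have hq : q ∈ [a, c] := hp.mem_iff.mp (by simp)
      have hqj : q ≠ j := by
        rcases List.mem_cons.mp hq with h | h
        · rw [h]; exact ha
        · rw [List.mem_singleton.mp h]; exact hc
      show ⁅b.f p, ⁅b.f q, v⁆⁆ ∈ (⊥ : Submodule K L)
      rw [T.f_v hqj, lie_zero]; exact zero_mem _
    obtain ⟨i, hi⟩ := hne
    rw [hi, T.rs_two] at hy'
    refine ⟨i, fun h => hy0 ?_, scale hy' hy0 hy⟩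
    simpa [h] using hy'

end Top

end Groth.Agent.AdjVarLib
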